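import Groth.Agent.ResProp.EF.K209.Lb
import Groth.Agent.ResProp.EF.K944.Loc
import Groth.Agent.ResProp.EF.Arch
import Mathlib.RingTheory.FiniteType
import Mathlib.RingTheory.RingHom.FiniteType

/-!
# `A ⊗ ℤ_(p)` and `A ⊗ ℚ` are groupoid rings of finite type over `ℤ_(p)`, `ℤ_(2)` (helper799)
-/

set_option autoImplicit false
set_option linter.dupNamespace false
set_option linter.style.haveILetI false

open CategoryTheory Opposite

namespace Groth.Agent.ResProp.EF.K799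

open Groth.Agent.ResProp.EF.K209 Groth.Agent.ResProp.EF.Arch EF56 K784.BC K784.PM

universe u

instance fact2 : Fact (Nat.Prime 2) := ⟨Nat.prime_two⟩

theorem isUnit_rat (x : (pIdeal 2).primeCompl) : IsUnit (algebraMap ℤ (ULift.{u} ℚ) x) := by
  have hx : (x : ℤ) ≠ 0 := fun h => x.2 (by rw [h]; exact Ideal.zero_mem _)
  have h1 : IsUnit ((x : ℤ) : ℚ) := isUnit_iff_ne_zero.2 (by exact_mod_cast hx)
  have := h1.map (ULift.ringEquiv.symm : ℚ ≃+* ULift.{u} ℚ)
  simpa using this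

/-- `ℤ_(2) → ℚ` -/
noncomputable def toQ : Lb.{u} 2 →+* ULift.{u} ℚ :=
  IsLocalization.lift (M := (pIdeal 2).primeCompl) (g := algebraMap ℤ (ULift.{u} ℚ)) isUnit_rat

theorem toQ_exists (n m : ℤ) (hm : m ∈ (pIdeal 2).primeCompl) :
    ∃ z : Lb.{u} 2, (m : ℚ) * (toQ z).down = n := by
  refine ⟨IsLocalization.mk' (Lb.{u} 2) n ⟨m, hm⟩, ?_⟩
  have h := (IsLocalization.lift_mk'_spec (S := Lb.{u} 2) isUnit_rat n
    (toQ (IsLocalization.mk' (Lb.{u} 2) n ⟨m, hm⟩)) (⟨m, hm⟩ : (pIdeal 2).primeCompl)).1 rfl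
  have h2 := congrArg ULift.down h
  simp only [ULift.mul_down, algebraMap_int_eq, eq_intCast, ULift.down_intCast] at h2
  exact h2.symm

theorem rat_key (x : ℚ) : ∃ (z : Lb.{u} 2) (n : ℕ), (⟨x⟩ : ULift.{u} ℚ) = toQ z * (⟨1 / 2⟩ : ULift.{u} ℚ) ^ n := by
  have hden : x.den ≠ 0 := x.den_nz
  obtain ⟨n, m, hm, hd⟩ := Nat.exists_eq_two_pow_mul_odd hden
  have hm0 : (m : ℤ) ∈ (pIdeal 2).primeCompl := by
    intro h
    have := Ideal.mem_span_singleton.1 h
    have h3 : 2 ∣ m := by exact_mod_cast this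
    exact (Nat.not_even_iff_odd.2 hm) (even_iff_two_dvd.2 h3)
  obtain ⟨z, hz⟩ := toQ_exists x.num m hm0
  refine ⟨z, n, ULift.ext _ _ ?_⟩
  rw [ULift.mul_down, ULift.pow_down]
  change x = (toQ z).down * (1 / 2) ^ n
  have hm1 : (m : ℚ) ≠ 0 := by
    rintro h
    have : m = 0 := by exact_mod_cast h
    subst this
    simp at hm
  have e1 : (toQ z).down = x.num / m := by
    rw [eq_div_iff hm1, mul_comm]
    exact_mod_cast hz
  rw [e1]
  have e2 : x = x.num / x.den := (Rat.num_div_den x).symm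
  have e3 : (x.den : ℚ) = 2 ^ n * m := by rw [hd]; push_cast; ring
  rw [e3] at e2
  rw [one_div, inv_pow, ← div_eq_mul_inv, div_div, mul_comm (m : ℚ)]
  exact e2

theorem toQ_ft : (toQ.{u}).FiniteType := by
  letI : Algebra (Lb.{u} 2) (ULift.{u} ℚ) := toQ.{u}.toAlgebra
  generalize hq : (⟨1 / 2⟩ : ULift.{u} ℚ) = q
  have key : Algebra.adjoin (Lb.{u} 2) (({q} : Finset (ULift.{u} ℚ)) : Set (ULift.{u} ℚ)) = ⊤ := by
    rw [eq_top_iff]
    rintro ⟨x⟩ -
    rw [Finset.coe_singleton]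
    obtain ⟨z, n, hz⟩ := rat_key.{u} x
    rw [hz, hq]
    refine Subalgebra.mul_mem _ ?_ (Subalgebra.pow_mem _ (Algebra.subset_adjoin (Set.mem_singleton _)) _)
    exact Subalgebra.algebraMap_mem _ z
  exact ⟨⟨{q}, key⟩⟩

theorem finiteType_of_cartHom {A B : NFᵒᵖ ⥤ CommRingCat.{u}} {j : A ⟶ B} (hj : CartHom j) {a : NF}
    (h : (rg A (pr a)).FiniteType) : (rg B (pr a)).FiniteType := by
  have h2 := RingHom.isStableUnderCobaseChange_toMorphismProperty_iff.2 RingHom.finiteType_isStableUnderBaseChange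
  exact h2.1 (hj (pr a)).flip h

/-- `A ⊗ k` is a groupoid ring of finite type over `k₀`, if `k` is of finite type over `k₀` -/
@[reducible] noncomputable def grfLam {k₀ k : Type u} [CommRing k₀] [CommRing k] (f : k₀ →+* k) (hf : f.FiniteType)
    {A : NFᵒᵖ ⥤ CommRingCat.{u}} (hA : GRZ A) : GRF k₀ (K944.lam k A) where
  gr := K944.gr_lam hA.toGR
  alg a := (((K944.kl k A).app (op a)).hom.comp f).toAlgebra
  map_k {a b} φ r := by
    have h := (K944.kl k A).naturality φ.op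
    have := congrArg (fun g => g.hom (f r)) h
    exact this.symm
  ft := by
    have h1 : ((K944.kl k A).app (op ⟨0⟩)).hom.FiniteType := K944.finiteType_kl hA.ft
    exact h1.comp hf
  fts := finiteType_of_cartHom (K944.cartHom_jl A) (RingHom.FiniteType.of_finitePresentation hA.smooth.finitePresentation)

theorem exists_grf_p {A : NFᵒᵖ ⥤ CommRingCat.{u}} (hA : GRZ A) (p : ℕ) [Fact p.Prime] :
    Nonempty (GRF (Lb.{u} p) (K944.lam (Lb.{u} p) A)) :=
  ⟨grfLam (RingHom.id _) (RingHom.FiniteType.id _) hA⟩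

theorem exists_grf_Q {A : NFᵒᵖ ⥤ CommRingCat.{u}} (hA : GRZ A) :
    Nonempty (GRF (Lb.{u} 2) (K944.lam (ULift.{u} ℚ) A)) :=
  ⟨grfLam toQ toQ_ft hA⟩

end Groth.Agent.ResProp.EF.K799
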