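import Groth.Agent.ResProp.EF.ArchTop
import Groth.Agent.ResProp.EF.X56.ChartF

/-!
# All Props of `ArchTop` about a chart `X` with `X.us = vst A` may be proved for `chartF A` only (helper799)
-/

set_option autoImplicit false
set_option linter.dupNamespace false
set_option linter.style.haveILetI false

open CategoryTheory CategoryTheory.Limits Opposite HomologicalComplex

noncomputable section

namespace Groth.Agent.ResProp.EF.Arch

open K784.BC K784.PM K741.RP EF56 K294 Grp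

universe w v u

section

variable {R : Type u} [CommRing R] {C : Type v} [Category.{w} C] [Abelian C] {X X' : Chart R C}

theorem allHit_congr (h : X.us = X'.us) {K : CM R} (H : F5.AllHit X K) : F5.AllHit X' K := by
  obtain ⟨us, ul, adj, a1, a2, a3, a4, a5, a6⟩ := X
  obtain ⟨us', ul', adj', b1, b2, b3, b4, b5, b6⟩ := X'
  obtain rfl : us = us' := h
  exact H

theorem hit_congr (h : X.us = X'.us) (H : X.Hit) : X'.Hit := by
  obtain ⟨us, ul, adj, a1, a2, a3, a4, a5, a6⟩ := X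
  obtain ⟨us', ul', adj', b1, b2, b3, b4, b5, b6⟩ := X'
  obtain rfl : us = us' := h
  intro Z z
  obtain ⟨a, T, h1, h2⟩ := H Z z
  exact ⟨a, T, h1, ⟨h2.out⟩⟩

theorem resHit_congr (h : X.us = X'.us) {x : PrimeSpectrum R} (H : ResHit X x) : ResHit X' x :=
  fun N h1 h2 => allHit_congr h (H N h1 h2)

theorem hitCx_congr (h : X.us = X'.us) {x : PrimeSpectrum R} {K : CM R} (H : HitCx X x K) : HitCx X' x K :=
  ⟨H.bdd, H.flat, allHit_congr h H.hit, H.nz⟩

end

/-- `StmtKernelHit` for `chartF` -/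
theorem stmtKernelHit_of (H : ∀ (p : ℕ) (k : Type u) [CommRing k] [IsLb p k] (A : NFᵒᵖ ⥤ CommRingCat.{u}) [GRF k A]
    [Fact (GR A)] (x : PrimeSpectrum (A.obj (op ⟨0⟩))) (c : CoverDatum k A x), KernelDatum c →
      ∃ K, HitCx (chartF A) x K) : StmtKernelHit.{u} := by
  intro p k _ _ A _ _ X hX x c κ
  obtain ⟨K, hK⟩ := H p k A x c κ
  exact ⟨K, hitCx_congr ((chartF_us _).trans hX.symm) hK⟩

/-- `StmtC3` for `chartF` -/
theorem stmtC3_of (H : ∀ (A : NFᵒᵖ ⥤ CommRingCat.{u}) [Fact (GR A)], IsNoetherianRing (A.obj (op ⟨0⟩)) →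
    ∀ (x : PrimeSpectrum (A.obj (op ⟨0⟩))) (K : CM (A.obj (op ⟨0⟩))), HitCx (chartF A) x K → ResHit (chartF A) x) :
    StmtC3.{u} := by
  intro A _ X hX hN x K hK
  exact resHit_congr ((chartF_us _).trans hX.symm) (H A hN x K (hitCx_congr (hX.trans (chartF_us _).symm) hK))

/-- `StmtOverZ` for `chartF`, without `X_ℚ` -/
theorem stmtOverZ_of (H : ∀ (A : NFᵒᵖ ⥤ CommRingCat.{u}) [Fact (GR A)], GRZ A →
    (∀ (p : ℕ) [Fact p.Prime] [Fact (GR (K944.lam (K209.Lb.{u} p) A))], ∀ x,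
      ResHit (chartF (K944.lam (K209.Lb.{u} p) A)) x) → (chartF A).Hit) : StmtOverZ.{u} := by
  intro A _ hA h1 _ X hX
  exact hit_congr ((chartF_us _).trans hX.symm) (H A hA fun p _ _ x => h1 p (chartF _) (chartF_us _) x)

end Groth.Agent.ResProp.EF.Arch
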