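import Groth.Statements.S16912
import Groth.Agent.ResProp.EF.ArchTop
import Groth.Agent.ResProp.EF.X56.C3

/-!
# S16912 from the four Props which are still open at 08:30 (dry run of the last file; helper799)
-/

set_option autoImplicit false
universe u
open CategoryTheory CategoryTheory.Limits AlgebraicGeometry
open ResProp

namespace Groth.Agent.ResProp.EF.K799

open Arch

/-- the frozen statement from the blocks -/
theorem result_of_blocks (h1 : StmtCover.{u}) (h2 : StmtKernel.{u}) (h3 : StmtKernelHit.{u})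
    (h5 : StmtOverZ.{u}) (S : Scheme.{u}) [IsAffine S]
    (𝒳 : AlgSt.Cat S) (h𝒳 : AlgSt.IsAlgStack Scheme.fppfPrecoverage 𝒳) (hqc : AlgSt.IsQuasiCompact 𝒳)
    (hΔ : AlgSt.RepByAlgSpWith AlgSp.IsAffineMor (FibCat.diag (FibCat.toSelf 𝒳)))
    (M : StMod.QCoh 𝒳) :
    ∃ (F : StMod.QCoh 𝒳) (q : F ⟶ M),
      (∀ ξ : 𝒳.obj, FlatMod.IsFlat (F.obj.obj ξ)) ∧ StMod.Mod.IsSurj q.hom :=
  frozen_of_blocks h1 h2 h3 EF56.stmtC3 h5 S 𝒳 h𝒳 hqc hΔ M

end Groth.Agent.ResProp.EF.K799
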