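import Groth.Agent.ResProp.EF.K799.Last
import Groth.Agent.ResProp.EF.K412.Final
import Groth.Agent.ResProp.EF.K940.Last

/-!
# S16912 from `StmtKernel` and `StmtKernelHit` (dry run of the last file; helper799)
-/

set_option autoImplicit false
universe u
open CategoryTheory CategoryTheory.Limits AlgebraicGeometry
open ResProp

namespace Groth.Agent.ResProp.EF.K799

open Arch

/-- the frozen statement from the two last Props -/
theorem result_of_kernel (h2 : StmtKernel.{u}) (h3 : StmtKernelHit.{u}) (S : Scheme.{u}) [IsAffine S]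
    (𝒳 : AlgSt.Cat S) (h𝒳 : AlgSt.IsAlgStack Scheme.fppfPrecoverage 𝒳) (hqc : AlgSt.IsQuasiCompact 𝒳)
    (hΔ : AlgSt.RepByAlgSpWith AlgSp.IsAffineMor (FibCat.diag (FibCat.toSelf 𝒳)))
    (M : StMod.QCoh 𝒳) :
    ∃ (F : StMod.QCoh 𝒳) (q : F ⟶ M),
      (∀ ξ : 𝒳.obj, FlatMod.IsFlat (F.obj.obj ξ)) ∧ StMod.Mod.IsSurj q.hom :=
  result_of_blocks K412.stmtCover h2 h3 K940.stmtOverZ S 𝒳 h𝒳 hqc hΔ M

end Groth.Agent.ResProp.EF.K799
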