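import Groth.Agent.ResProp.EF.K799.Last2
import Groth.Agent.ResProp.EF.K303.ConsDef
import Groth.Agent.ResProp.EF.K868.KHit

/-!
# S16912 from the five Props `StmtProd`, `StmtESide`, `StmtAsm`, `StmtRep`, `StmtRoofHit` (dry run; helper799)
-/

set_option autoImplicit false
universe u
open CategoryTheory CategoryTheory.Limits AlgebraicGeometry
open ResProp

namespace Groth.Agent.ResProp.EF.K799

open Arch

theorem stmtKernel_of (h1 : K980.StmtProd.{u}) (h2 : K303.StmtESide.{u}) (h3 : K303.StmtAsm.{u}) : StmtKernel.{u} :=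
  K980.stmtKernel h1 (K303.stmtCons h2 h3)

theorem stmtKernelHit_of (h4 : K868.StmtRep.{u}) (h5 : K868.StmtRoofHit.{u}) : StmtKernelHit.{u} :=
  K868.stmtKernelHit h4 h5

/-- the frozen statement from the five last Props -/
theorem result_of_five (h1 : K980.StmtProd.{u}) (h2 : K303.StmtESide.{u}) (h3 : K303.StmtAsm.{u})
    (h4 : K868.StmtRep.{u}) (h5 : K868.StmtRoofHit.{u}) (S : Scheme.{u}) [IsAffine S]
    (𝒳 : AlgSt.Cat S) (h𝒳 : AlgSt.IsAlgStack Scheme.fppfPrecoverage 𝒳) (hqc : AlgSt.IsQuasiCompact 𝒳)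
    (hΔ : AlgSt.RepByAlgSpWith AlgSp.IsAffineMor (FibCat.diag (FibCat.toSelf 𝒳)))
    (M : StMod.QCoh 𝒳) :
    ∃ (F : StMod.QCoh 𝒳) (q : F ⟶ M),
      (∀ ξ : 𝒳.obj, FlatMod.IsFlat (F.obj.obj ξ)) ∧ StMod.Mod.IsSurj q.hom :=
  result_of_kernel (stmtKernel_of h1 h2 h3) (stmtKernelHit_of h4 h5) S 𝒳 h𝒳 hqc hΔ M

end Groth.Agent.ResProp.EF.K799
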