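import Groth.Agent.ResProp.EF.K799.Last4
import Groth.Agent.ResProp.EF.K918.FinalESide
import Groth.Agent.ResProp.EF.K62.Asm
import Groth.Agent.ResProp.EF.K476.StmtAct

/-!
# S16912 from the Prop `StmtProd` (dry run; helper799)
-/

set_option autoImplicit false
universe u
open CategoryTheory CategoryTheory.Limits AlgebraicGeometry
open ResProp

namespace Groth.Agent.ResProp.EF.K799

open Arch

/-- the frozen statement from the last Prop -/
theorem result_of_prod (h1 : K980.StmtProd.{u}) (S : Scheme.{u}) [IsAffine S]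
    (𝒳 : AlgSt.Cat S) (h𝒳 : AlgSt.IsAlgStack Scheme.fppfPrecoverage 𝒳) (hqc : AlgSt.IsQuasiCompact 𝒳)
    (hΔ : AlgSt.RepByAlgSpWith AlgSp.IsAffineMor (FibCat.diag (FibCat.toSelf 𝒳)))
    (M : StMod.QCoh 𝒳) :
    ∃ (F : StMod.QCoh 𝒳) (q : F ⟶ M),
      (∀ ξ : 𝒳.obj, FlatMod.IsFlat (F.obj.obj ξ)) ∧ StMod.Mod.IsSurj q.hom :=
  result_of_four h1 K918.stmtESide K62.stmtAsm K476.StmtAct.stmtAct S 𝒳 h𝒳 hqc hΔ M

end Groth.Agent.ResProp.EF.K799
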